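/-
helper50: ST3-[SCTOP] of helper60's sheet ST3_MODULES.md (Steinberg Theorem 10, S2398): lifts of elements of the root
subgroup `X_s` commute when `s` has a certificate `TopCert` (the long roots of `B₂`).
-/
import Cfsg.Agent.Lib.Helper60.St3Defs

set_option autoImplicit false

namespace Cfsg.Agent.Lib.Helper50.St3

open Cfsg.Lie Cfsg.Agent.Lib.Helper35.St Cfsg.Agent.Lib.Helper60.St3

universe u v w

variable {D : ChevalleyDatum} {K : Type u} [Field K] {Γ : Type v} [Group Γ] {E : Type w} [Group E]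

/-- ST3-[SCTOP]. -/
theorem selfComm_of_topCert (M : Model D K Γ) (ψ : E →* Γ) (hψ : Function.Surjective ψ)
    (hc : ψ.ker ≤ Subgroup.center E) (hpc : PairComm M ψ) (s : ℕ) (hs : s < D.nroots) (hcert : TopCert D s)
    (a b : K) : LiftsComm ψ (M.X s a) (M.X s b) := by
  obtain ⟨r', s', l₁, l₂, C, j, hr', hs', hne, hnn, hC, hterms, hcr, hcs, hcl⟩ := hcert
  intro x y hx hy
  -- lifts of root elements of roots commuting with `s` centralise `x`
  have hcomm : ∀ c, ComPair D s c → ∀ (v : K) (y' : E), ψ y' = M.X c v →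
      y' ∈ Subgroup.centralizer ({x} : Set E) := by
    intro c hcp v y' hy'
    rw [Subgroup.mem_centralizer_iff]
    intro g hg
    rw [Set.mem_singleton_iff] at hg
    subst hg
    exact hpc s c hs hcp a v g y' hx hy'
  have hlist : ∀ L : List (ℕ × K), (∀ p ∈ L, ComPair D s p.1) →
      ∃ q ∈ Subgroup.centralizer ({x} : Set E), ψ q = (L.map fun p => M.X p.1 p.2).prod := by
    intro L
    induction L with
    | nil => intro _; exact ⟨1, one_mem _, by simp⟩
    | cons p L ih =>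
      intro hL
      obtain ⟨q, hq, hqψ⟩ := ih (fun p' hp' => hL p' (List.mem_cons_of_mem _ hp'))
      obtain ⟨y', hy'⟩ := hψ (M.X p.1 p.2)
      refine ⟨y' * q, mul_mem (hcomm p.1 (hL p List.mem_cons_self) p.2 y' hy') hq, ?_⟩
      rw [map_mul, hy', hqψ, List.map_cons, List.prod_cons]
  set t : K := -((C : K) * b) with ht
  have hCC : (C : K) * (C : K) = 1 := by rcases hC with rfl | rfl <;> simp
  let f : (ℕ × ℤ × ℕ × ℕ) → ℕ × K := fun c => (c.1, (c.2.1 : K) * (-t) ^ c.2.2.1 * (1 : K) ^ c.2.2.2)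
  have hword : D.commWord K r' s' t 1 = (l₁.map f) ++ (s, b) :: (l₂.map f) := by
    have h0 : D.commWord K r' s' t 1 = (D.commTerms r' s').map f := rfl
    rw [h0, hterms, List.map_append, List.map_cons]
    have h1 : f (s, C, 1, j) = (s, b) := by
      show (s, (C : K) * (-t) ^ 1 * (1 : K) ^ j) = (s, b)
      rw [ht, neg_neg, pow_one, one_pow, mul_one, ← mul_assoc, hCC, one_mul]
    rw [h1]
  have hcommrel := M.comm r' s' hr' hs' hne hnn t 1
  rw [hword, List.map_append, List.prod_append, List.map_cons, List.prod_cons] at hcommrel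
  obtain ⟨xt, hxt⟩ := hψ (M.X r' t)
  obtain ⟨yt, hyt⟩ := hψ (M.X s' 1)
  have hxtc := hcomm r' hcr t xt hxt
  have hytc := hcomm s' hcs 1 yt hyt
  obtain ⟨p1, hp1c, hp1⟩ := hlist (l₁.map f) (by
    intro p hp
    obtain ⟨c, hc', rfl⟩ := List.mem_map.mp hp
    exact hcl c (List.mem_append_left _ hc'))
  obtain ⟨p2, hp2c, hp2⟩ := hlist (l₂.map f) (by
    intro p hp
    obtain ⟨c, hc', rfl⟩ := List.mem_map.mp hp
    exact hcl c (List.mem_append_right _ hc'))
  -- a lift of `X_s(b)` centralising `x`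
  set y' : E := p1⁻¹ * (yt⁻¹ * xt⁻¹ * yt * xt) * p2⁻¹ with hy'def
  have hy'c : y' ∈ Subgroup.centralizer ({x} : Set E) :=
    mul_mem (mul_mem (inv_mem hp1c) (mul_mem (mul_mem (mul_mem (inv_mem hytc) (inv_mem hxtc)) hytc) hxtc))
      (inv_mem hp2c)
  have hy'ψ : ψ y' = M.X s b := by
    rw [hy'def, map_mul, map_mul, map_inv, map_inv, map_mul, map_mul, map_mul, map_inv, map_inv, hxt, hyt,
      hcommrel, hp1, hp2]
    group
  have hk : y'⁻¹ * y ∈ Subgroup.center E := by
    apply hc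
    rw [MonoidHom.mem_ker, map_mul, map_inv, hy'ψ, hy, inv_mul_cancel]
  have hxy' : x * y' = y' * x := (Subgroup.mem_centralizer_iff.mp hy'c) x rfl
  have hkx : x * (y'⁻¹ * y) = (y'⁻¹ * y) * x := ((Subgroup.mem_center_iff.mp hk) x)
  calc x * y = x * y' * (y'⁻¹ * y) := by group
    _ = y' * (x * (y'⁻¹ * y)) := by rw [hxy', mul_assoc]
    _ = y' * ((y'⁻¹ * y) * x) := by rw [hkx]
    _ = y * x := by group

end Cfsg.Agent.Lib.Helper50.St3
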